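import Mathlib.Algebra.Polynomial.FieldDivision
import Mathlib.RingTheory.Polynomial.Basic
import Mathlib.Algebra.Polynomial.Derivative
import Mathlib.RingTheory.PowerSeries.WellKnown
import Mathlib.LinearAlgebra.FiniteDimensional.Lemmas
import Mathlib.Tactic

/-! Linear series on pointed lines: small dimension counts. -/

set_option autoImplicit false

namespace Groth.Agent.H25Wr

open Polynomial

variable {k : Type*} [Field k]

/-- Multiples of a monic `D` inside a space of bounded degree. -/
lemma inf_span_eq_map {D : k[X]} (hD : D.Monic) {n N : ℕ} (hN : D.natDegree + n = N) (V : Submodule k k[X])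
    (hV : V ≤ degreeLE k N) :
    V ⊓ (Ideal.span {D}).restrictScalars k =
      (degreeLE k (n : ℕ) ⊓ V.comap (LinearMap.mulLeft k D)).map (LinearMap.mulLeft k D) := by
  ext f
  simp only [Submodule.mem_inf, Submodule.restrictScalars_mem, Ideal.mem_span_singleton, Submodule.mem_map,
    Submodule.mem_comap, LinearMap.mulLeft_apply]
  constructor
  · rintro ⟨hf, g, rfl⟩
    refine ⟨g, ⟨?_, hf⟩, rfl⟩
    rw [mem_degreeLE, degree_le_iff_coeff_zero]
    intro m hm
    have hmn : n < m := by exact_mod_cast hm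
    by_contra hne
    have hg : g ≠ 0 := fun h => hne (by simp [h])
    have h1 := natDegree_le_iff_degree_le.2 (mem_degreeLE.1 (hV hf))
    rw [hD.natDegree_mul' hg] at h1
    have := le_natDegree_of_ne_zero hne
    omega
  · rintro ⟨g, ⟨-, hg⟩, rfl⟩
    exact ⟨hg, dvd_mul_right _ _⟩

lemma finrank_inf_span {D : k[X]} (hD : D.Monic) {n N : ℕ} (hN : D.natDegree + n = N) (V : Submodule k k[X])
    (hV : V ≤ degreeLE k N) :
    Module.finrank k ↥(V ⊓ (Ideal.span {D}).restrictScalars k) =
      Module.finrank k ↥(degreeLE k (n : ℕ) ⊓ V.comap (LinearMap.mulLeft k D)) := by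
  rw [inf_span_eq_map hD hN V hV]
  exact (Submodule.equivMapOfInjective _ (fun a b h => mul_left_cancel₀ hD.ne_zero h) _).finrank_eq.symm

lemma finrank_degreeLE (n : ℕ) : Module.finrank k ↥(degreeLE k (n : ℕ)) = n + 1 := by
  rw [← degreeLT_succ_eq_degreeLE, (degreeLTEquiv k (n + 1)).finrank_eq, Module.finrank_fin_fun]

instance (n : ℕ) : Module.Finite k ↥(degreeLE k (n : ℕ)) := by
  rw [← degreeLT_succ_eq_degreeLE]
  exact Module.Finite.equiv (degreeLTEquiv k (n + 1)).symm

/-- A proper subspace of `degreeLE` has smaller dimension. -/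
lemma finrank_le_of_lt {n : ℕ} (W : Submodule k k[X]) (hW : W ≤ degreeLE k (n : ℕ))
    (g : k[X]) (hg : g ∈ degreeLE k (n : ℕ)) (hgW : g ∉ W) : Module.finrank k ↥W ≤ n := by
  have h : W < degreeLE k (n : ℕ) := lt_of_le_of_ne hW fun h => hgW (h ▸ hg)
  have := Submodule.finrank_lt_finrank_of_lt h
  rw [finrank_degreeLE] at this
  omega

/-- Equal values at `0` and `-1`. -/
lemma nodal_series_eq (N : ℕ) (hN : 1 ≤ N) (V : Submodule k k[X])
    (hV : V = Submodule.span k {(1 : k[X])} ⊔
      ((Ideal.span {(X : k[X]) * (X + 1)}).restrictScalars k ⊓ degreeLE k (N : ℕ))) :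
    ∀ f, f ∈ V ↔ f ∈ degreeLE k (N : ℕ) ∧ f.eval 0 = f.eval (-1) := by
  subst hV
  intro f
  constructor
  · intro hf
    obtain ⟨u, hu, w, hw, rfl⟩ := Submodule.mem_sup.1 hf
    obtain ⟨c, rfl⟩ := Submodule.mem_span_singleton.1 hu
    obtain ⟨hw1, hw2⟩ := Submodule.mem_inf.1 hw
    rw [Submodule.restrictScalars_mem, Ideal.mem_span_singleton] at hw1
    obtain ⟨g, rfl⟩ := hw1
    refine ⟨Submodule.add_mem _ (Submodule.smul_mem _ _ ?_) hw2, by simp⟩
    rw [mem_degreeLE]; exact degree_one_le.trans (by exact_mod_cast Nat.zero_le N)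
  · rintro ⟨h1, h2⟩
    refine Submodule.mem_sup.2 ⟨f.eval 0 • 1, Submodule.mem_span_singleton.2 ⟨_, rfl⟩, f - f.eval 0 • 1,
      Submodule.mem_inf.2 ⟨?_, Submodule.sub_mem _ h1 (Submodule.smul_mem _ _ ?_)⟩, by ring⟩
    · rw [Submodule.restrictScalars_mem, Ideal.mem_span_singleton]
      have e : (X : k[X]) * (X + 1) = (X - C 0) * (X - C (-1)) := by simp
      rw [e]
      refine IsCoprime.mul_dvd (isCoprime_X_sub_C_of_isUnit_sub (by simp)) ?_ ?_
      · rw [dvd_iff_isRoot]; simp
      · rw [dvd_iff_isRoot]; simp [h2]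
    · rw [mem_degreeLE]; exact degree_one_le.trans (by exact_mod_cast Nat.zero_le N)

theorem no_special_ramification [CharZero k] (a : ℕ) (ha : 0 < a) (V : Submodule k k[X])
    (hV : V = Submodule.span k {(1 : k[X])} ⊔
      ((Ideal.span {(X : k[X]) * (X + 1)}).restrictScalars k ⊓ degreeLE k ↑(a + 1))) :
    (∀ p : k, Module.finrank k ↥(V ⊓ (Ideal.span {(X - C p) ^ a}).restrictScalars k) ≤ 1) ∧
      Module.finrank k ↥(V ⊓ degreeLT k 2) ≤ 1 := by
  have hmem := nodal_series_eq (a + 1) (by omega) V hV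
  constructor
  · intro p
    rw [finrank_inf_span ((monic_X_sub_C p).pow a) (n := 1) (N := a + 1) (by simp) V fun f hf => ((hmem f).1 hf).1]
    have h01 : (-p) ^ a ≠ 0 ∨ (-1 - p) ^ a ≠ 0 := by
      by_cases hp : p = 0
      · right; subst hp; simp
      · left; simp [hp]
    by_cases h1 : (1 : k[X]) ∈ V.comap (LinearMap.mulLeft k ((X - C p) ^ a))
    · refine finrank_le_of_lt (n := 1) _ inf_le_left X (mem_degreeLE.2 (by simp)) fun hX => ?_
      have e1 := ((hmem _).1 (Submodule.mem_comap.1 h1)).2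
      have e2 := ((hmem _).1 (Submodule.mem_comap.1 (Submodule.mem_inf.1 hX).2)).2
      simp at e1 e2
      rcases h01 with h | h
      · rw [e1] at h; exact h (by simpa [sub_eq_add_neg] using e2)
      · exact h (by simpa [sub_eq_add_neg] using e2)
    · exact finrank_le_of_lt (n := 1) _ inf_le_left 1 (mem_degreeLE.2 (degree_one_le.trans (by simp)))
        fun h => h1 (Submodule.mem_inf.1 h).2
  · have h2 : degreeLT k 2 = degreeLE k ((1 : ℕ) : WithBot ℕ) := degreeLT_succ_eq_degreeLE (R := k) (n := 1)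
    rw [h2]
    refine finrank_le_of_lt (n := 1) _ inf_le_right X (mem_degreeLE.2 (by simp)) fun hX => ?_
    have := ((hmem _).1 (Submodule.mem_inf.1 hX).1).2
    simp at this

theorem three_le_iff [CharZero k] (a i j : ℕ) (hi : 0 < i) (hj : 0 < j) (hij : i + j + 1 = a)
    (V : Submodule k k[X])
    (hV : V = Submodule.span k {(1 : k[X])} ⊔
      ((Ideal.span {(X : k[X]) * (X + 1)}).restrictScalars k ⊓ degreeLE k ↑(a + 1)))
    (p q : k) :
    3 ≤ Module.finrank k ↥(V ⊓ (Ideal.span {(X - C p) ^ i * (X - C q) ^ j}).restrictScalars k) ↔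
      (p = 0 ∧ q = -1) ∨ (p = -1 ∧ q = 0) := by
  have hmem := nodal_series_eq (a + 1) (by omega) V hV
  set D := (X - C p) ^ i * (X - C q) ^ j
  have hD : D.Monic := ((monic_X_sub_C p).pow i).mul ((monic_X_sub_C q).pow j)
  have hdeg : D.natDegree + 2 = a + 1 := by
    rw [Monic.natDegree_mul ((monic_X_sub_C p).pow i) ((monic_X_sub_C q).pow j)]
    simp; omega
  rw [finrank_inf_span hD hdeg V fun f hf => ((hmem f).1 hf).1]
  have hval : ∀ x : k, D.eval x = (x - p) ^ i * (x - q) ^ j := fun x => by simp [D]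
  constructor
  · intro h3
    have hfull : ∀ g ∈ degreeLE k ((2 : ℕ) : WithBot ℕ), D.eval 0 * g.eval 0 = D.eval (-1) * g.eval (-1) := by
      intro g hg
      by_contra hne
      have hlt := finrank_le_of_lt (n := 2) (degreeLE k ((2 : ℕ) : WithBot ℕ) ⊓ V.comap (LinearMap.mulLeft k D))
        inf_le_left g hg fun h => hne (by
          have := ((hmem _).1 (Submodule.mem_comap.1 (Submodule.mem_inf.1 h).2)).2
          simpa using this)
      omega
    have e1 := hfull 1 (mem_degreeLE.2 (degree_one_le.trans (by simp)))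
    have e2 := hfull X (mem_degreeLE.2 (degree_X_le.trans (by simp)))
    simp at e1 e2
    rw [e2] at e1
    rw [hval] at e1 e2
    simp [hi.ne', hj.ne', sub_eq_zero] at e1 e2
    rcases e1 with rfl | rfl <;> rcases e2 with h | h
    · exact absurd h (by norm_num)
    · exact Or.inl ⟨rfl, h.symm⟩
    · exact Or.inr ⟨h.symm, rfl⟩
    · exact absurd h (by norm_num)
  · intro h
    have hz : D.eval 0 = 0 ∧ D.eval (-1) = 0 := by
      rcases h with ⟨rfl, rfl⟩ | ⟨rfl, rfl⟩ <;> simp [hval, hi.ne', hj.ne']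
    have hle : degreeLE k ((2 : ℕ) : WithBot ℕ) ≤ V.comap (LinearMap.mulLeft k D) := fun g hg => by
      rw [Submodule.mem_comap, hmem]
      refine ⟨?_, by simp [hz.1, hz.2]⟩
      rw [mem_degreeLE, LinearMap.mulLeft_apply]
      refine (degree_mul_le _ _).trans ((add_le_add degree_le_natDegree (mem_degreeLE.1 hg)).trans ?_)
      exact_mod_cast hdeg.le
    rw [inf_eq_left.2 hle, finrank_degreeLE]

theorem off_marked [CharZero k] (a b i : ℕ) (ha : 0 < a) (hb : 0 < b) (hi : 0 < i) (hiab : i < a + b)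
    (V : Submodule k k[X])
    (hV : V = degreeLE k ↑(a + b - i) ⊓
      LinearMap.ker ((lcoeff k a).comp (LinearMap.mulLeft k (((X : k[X]) + 1) ^ i))))
    (q : k) (hq : q ≠ 0) :
    Module.finrank k ↥(V ⊓ (Ideal.span {(X - C q) ^ (a + b - i - 1)}).restrictScalars k) ≤ 1 := by
  subst hV
  set M := a + b - i - 1 with hM
  rw [finrank_inf_span ((monic_X_sub_C q).pow M) (n := 1) (N := a + b - i) (by simp; omega) _ inf_le_left]
  set Q := ((X : k[X]) + 1) ^ i * (X - C q) ^ M with hQ
  have hQm : Q.Monic := ((monic_X_add_C 1).pow i).mul ((monic_X_sub_C q).pow M)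
  have hQd : Q.natDegree = i + M := by
    rw [hQ, ← C_1, Monic.natDegree_mul ((monic_X_add_C 1).pow i) ((monic_X_sub_C q).pow M), natDegree_pow,
      natDegree_pow, natDegree_X_add_C, natDegree_X_sub_C, mul_one, mul_one]
  have hne : Q.coeff a ≠ 0 ∨ Q.coeff (a - 1) ≠ 0 := by
    by_contra hc
    simp only [not_or, not_not] at hc
    obtain ⟨A, hA⟩ : ∃ A : k, A = (M : k) - i * q := ⟨_, rfl⟩
    obtain ⟨B, hB⟩ : ∃ B : k, B = (i : k) + M := ⟨_, rfl⟩
    have hode : derivative Q * (((X : k[X]) + 1) * (X - C q)) = (C A + C B * X) * Q := by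
      rw [hQ, derivative_mul, derivative_pow, derivative_pow, derivative_sub, derivative_add, derivative_X,
        derivative_one, derivative_C, hA, hB]
      rcases Nat.eq_zero_or_pos M with h0 | h0
      · rw [h0]
        obtain ⟨i', rfl⟩ : ∃ i', i = i' + 1 := ⟨i - 1, by omega⟩
        simp [pow_succ]
        ring
      · obtain ⟨M', hM'⟩ : ∃ M', M = M' + 1 := ⟨M - 1, by omega⟩
        obtain ⟨i', rfl⟩ : ∃ i', i = i' + 1 := ⟨i - 1, by omega⟩
        rw [hM']
        simp [pow_succ]
        ring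
    have hrec : ∀ n : ℕ, (-q) * ((n : k) + 2) * Q.coeff (n + 2) + ((1 - q) * ((n : k) + 1) - A) * Q.coeff (n + 1) +
        ((n : k) - B) * Q.coeff n = 0 := by
      intro n
      have e : (((X : k[X]) + 1) * (X - C q)) = X ^ 2 + C (1 - q) * X + C (-q) := by
        rw [map_sub, map_neg, map_one]; ring
      rw [e] at hode
      have h := congrArg (fun P : k[X] => P.coeff (n + 1)) hode
      simp only [mul_add, add_mul, coeff_add, coeff_mul_C, ← mul_assoc, coeff_mul_X, coeff_derivative,
        coeff_C_mul] at h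
      rw [mul_assoc (C B), coeff_C_mul, coeff_X_mul] at h
      rcases n with _ | n
      · rw [coeff_mul_X_pow'] at h
        simp at h ⊢
        linear_combination h
      · rw [show n + 1 + 1 = n + 2 from rfl, coeff_mul_X_pow, coeff_derivative] at h
        push_cast at h ⊢
        linear_combination h
    have hzero : ∀ d, Q.coeff (a - 1 + d) = 0 ∧ Q.coeff (a - 1 + d + 1) = 0 := by
      intro d
      induction d with
      | zero => exact ⟨hc.2, by rw [Nat.add_zero, Nat.sub_add_cancel ha]; exact hc.1⟩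
      | succ d ih =>
        refine ⟨ih.2, ?_⟩
        have h := hrec (a - 1 + d)
        rw [ih.1, ih.2, mul_zero, mul_zero, add_zero, add_zero] at h
        have hn : ((((a - 1 + d : ℕ)) : k) + 2) ≠ 0 := by exact_mod_cast Nat.succ_ne_zero (a - 1 + d + 1)
        rcases mul_eq_zero.1 h with h | h
        · exact absurd h (mul_ne_zero (neg_ne_zero.2 hq) hn)
        · simpa [add_assoc] using h
    have := (hzero (i + M - (a - 1))).1
    rw [show a - 1 + (i + M - (a - 1)) = i + M by omega, ← hQd, hQm.coeff_natDegree] at this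
    exact one_ne_zero this
  rcases hne with h | h
  · refine finrank_le_of_lt (n := 1) _ inf_le_left 1 (mem_degreeLE.2 (degree_one_le.trans (by simp))) fun hh => h ?_
    have := (Submodule.mem_inf.1 (Submodule.mem_inf.1 hh).2).2
    simpa [hQ] using this
  · refine finrank_le_of_lt (n := 1) _ inf_le_left X (mem_degreeLE.2 (degree_X_le.trans (by simp))) fun hh => h ?_
    have := (Submodule.mem_inf.1 (Submodule.mem_inf.1 hh).2).2
    rw [LinearMap.mem_ker] at this
    simp only [LinearMap.comp_apply, LinearMap.mulLeft_apply, lcoeff_apply] at this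
    rw [← mul_assoc, ← hQ, show a = a - 1 + 1 by omega, coeff_mul_X] at this
    exact this

end Groth.Agent.H25Wr
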